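import Groth.Agent.CohBase.NefBC
import Groth.Agent.S4702
import Groth.Agent.S10831
import Groth.Agent.S17276
import Groth.Agent.S1358
import Groth.Agent.S9802
import Groth.Agent.S19964
import Groth.Agent.EulerFam.Scheme
import Groth.Agent.FlatMor.SchDom
import Groth.Agent.FormalFun.HomMonoEpi
import Groth.Agent.QCoh.Pullback
import Groth.Agent.ProjForm.Unit
import Groth.Agent.BigVol.CurveTest

/-!
# Nef modules specialize in families over a discrete valuation ring
-/

set_option autoImplicit false
set_option linter.style.haveILetI false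
set_option backward.isDefEq.respectTransparency.types false

universe u

open CategoryTheory CategoryTheory.Limits AlgebraicGeometry

noncomputable section

namespace Groth.Agent.NefSpec

variable {R : Type u} [CommRing R] [IsDomain R] [IsDiscreteValuationRing R]

local notation "S" => Spec (CommRingCat.of R)

/-- An invertible module nef on the closed fibre is nef on the generic fibre. -/
theorem nef_generic {X : Scheme.{u}} (p : X ⟶ S) [IsProper p] (L : X.Modules) (hL : PicF.IsInvertible L)
    (h0 : @NefPos.Nef (Scheme.residueField S (IsLocalRing.closedPoint R)) _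
      (p.fiber (IsLocalRing.closedPoint R)) ⟨p.fiberToSpecResidueField (IsLocalRing.closedPoint R)⟩
      ((Scheme.Modules.pullback (p.fiberι (IsLocalRing.closedPoint R))).obj L))
    (η : S) (hη : η = genericPoint S) :
    @NefPos.Nef (Scheme.residueField S η) _ (p.fiber η) ⟨p.fiberToSpecResidueField η⟩
      ((Scheme.Modules.pullback (p.fiberι η)).obj L) := by
  subst hη
  let η := genericPoint S
  let s : S := IsLocalRing.closedPoint R
  let κη := Scheme.residueField S η
  let κs := Scheme.residueField S s
  letI : (p.fiber η).Over (Spec (CommRingCat.of κη)) := ⟨p.fiberToSpecResidueField η⟩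
  letI : (p.fiber s).Over (Spec (CommRingCat.of κs)) := ⟨p.fiberToSpecResidueField s⟩
  haveI : IsProper (p.fiber η ↘ Spec (CommRingCat.of κη)) :=
    inferInstanceAs (IsProper (pullback.snd p (Scheme.fromSpecResidueField S η)))
  haveI : IsProper (p.fiber s ↘ Spec (CommRingCat.of κs)) :=
    inferInstanceAs (IsProper (pullback.snd p (Scheme.fromSpecResidueField S s)))
  intro C hC hCdim
  have hLη : PicF.IsInvertible ((Scheme.Modules.pullback (p.fiberι η)).obj L) :=
    PicCl.isInvertible_pullback _ hL
  rw [BigVol.CurveTest.euler_sub_eq_deg _ C hLη]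
  haveI := hC
  haveI : IsLocallyNoetherian X := LocallyOfFiniteType.isLocallyNoetherian p
  haveI : CompactSpace X := QuasiCompact.compactSpace_of_compactSpace p
  haveI : IsNoetherian X := ⟨⟩
  haveI : CompactSpace ↥(p.fiber η) :=
    QuasiCompact.compactSpace_of_compactSpace (p.fiber η ↘ Spec (CommRingCat.of κη))
  haveI : CompactSpace C.subscheme := QuasiCompact.compactSpace_of_compactSpace C.subschemeι
  let a : C.subscheme ⟶ X := C.subschemeι ≫ p.fiberι η
  haveI : QuasiCompact a := (quasiCompact_iff a).mpr fun U _ _ => by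
    haveI : IsLocallyNoetherian (p.fiber η) :=
      LocallyOfFiniteType.isLocallyNoetherian (p.fiber η ↘ Spec (CommRingCat.of κη))
    haveI : IsNoetherian (p.fiber η) := ⟨⟩
    haveI := C.subschemeι.isEmbedding.isInducing.noetherianSpace
    exact TopologicalSpace.NoetherianSpace.isCompact _
  haveI : IsIntegral a.image := S9802.isIntegral_image a
  let w := a.toImage
  let i := a.imageι
  let q : a.image ⟶ S := i ≫ p
  haveI : IsSchemeTheoreticallyDominant w := FlatMor.SchDom.toImage_dominant a (Or.inl inferInstance)
  haveI : QuasiCompact w := by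
    have : QuasiCompact (w ≫ i) := by rw [a.toImage_imageι]; infer_instance
    exact QuasiCompact.of_comp w i
  have hη' : ∀ z, q (w z) = η := fun z => by
    have : (w ≫ q) z = η := by
      rw [show w ≫ q = a ≫ p from (Category.assoc _ _ _).symm.trans (by rw [a.toImage_imageι])]
      show p (p.fiberι η (C.subschemeι z)) = η
      exact (p.range_fiberι η).le ⟨_, rfl⟩
    exact this
  haveI : Flat q := FDesc.GenericClosure.flat_of_schemeTheoreticallyDominant
    (S19964.regular_stalk R) q w hη'
  -- the generic fibre of the closure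
  let ι' : pullback i (p.fiberι η) ⟶ p.fiber η := pullback.snd _ _
  let l : C.subscheme ⟶ pullback i (p.fiberι η) := pullback.lift w C.subschemeι (a.toImage_imageι)
  haveI : IsClosedImmersion l := by
    have : IsClosedImmersion (l ≫ ι') := by rw [pullback.lift_snd]; infer_instance
    exact IsClosedImmersion.of_comp l ι'
  have hsq : IsPullback (pullback.fst i (p.fiberι η)) (ι' ≫ p.fiberToSpecResidueField η) q
      (Scheme.fromSpecResidueField S η) :=
    (IsPullback.of_hasPullback i (p.fiberι η)).paste_vert (IsPullback.of_hasPullback _ _)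
  haveI : IsReduced (pullback i (p.fiberι η)) := by
    haveI : IsReduced (pullback q (Scheme.fromSpecResidueField S η)) :=
      S1358.isReduced_fiber_genericPoint q
    exact isReduced_of_isOpenImmersion hsq.isoPullback.hom
  haveI : Surjective l := ⟨fun x => by
    have hx : p.fiberι η (ι' x) ∈ closure (Set.range a) := by
      have h1 : p.fiberι η (ι' x) = i (pullback.fst i (p.fiberι η) x) := by
        rw [← Scheme.Hom.comp_apply, ← Scheme.Hom.comp_apply, pullback.condition]
      rw [h1]
      have h2 : Set.range i ⊆ closure (Set.range a) := by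
        rintro _ ⟨y, rfl⟩
        have h3 : y ∈ closure (Set.range w) := by
          rw [(inferInstance : IsDominant w).denseRange.closure_range]; trivial
        have h4 := image_closure_subset_closure_image i.continuous ⟨y, h3, rfl⟩
        rwa [← Set.range_comp, show (⇑i ∘ ⇑w) = ⇑a from funext fun z => by
          rw [Function.comp_apply, ← Scheme.Hom.comp_apply, a.toImage_imageι]] at h4
      exact h2 ⟨_, rfl⟩
    have hcl : IsClosed (Set.range C.subschemeι) := C.subschemeι.isClosedEmbedding.isClosed_range
    have hx' : ι' x ∈ closure (Set.range C.subschemeι) := by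
      rw [(p.fiberι η).isEmbedding.isInducing.closure_eq_preimage_closure_image, Set.mem_preimage,
        ← Set.range_comp]
      exact hx
    rw [hcl.closure_eq] at hx'
    obtain ⟨z, hz⟩ := hx'
    refine ⟨z, ι'.isEmbedding.injective ?_⟩
    rw [← Scheme.Hom.comp_apply, pullback.lift_snd, hz]⟩
  haveI : IsIso l := isIso_of_isClosedImmersion_of_surjective l
  have hCη : IsPullback w (C.subschemeι ≫ p.fiberToSpecResidueField η) q
      (Scheme.fromSpecResidueField S η) :=
    hsq.of_iso (asIso l).symm (Iso.refl _) (Iso.refl _) (Iso.refl _)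
      (by rw [Iso.refl_hom, Category.comp_id, Iso.symm_hom, asIso_inv, IsIso.eq_inv_comp]
          exact pullback.lift_fst _ _ _)
      (by rw [Iso.refl_hom, Category.comp_id, Iso.symm_hom, asIso_inv, IsIso.eq_inv_comp]
          exact (Category.assoc _ _ _).symm.trans (congrArg (· ≫ _) (pullback.lift_snd _ _ _)))
      (by simp) (by simp)
  -- Euler characteristics
  let E := (Scheme.Modules.pullback i).obj L
  have hE : PicF.IsInvertible E := PicCl.isInvertible_pullback i hL
  haveI : IsLocallyNoetherian a.image := LocallyOfFiniteType.isLocallyNoetherian q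
  have hU : PicF.IsInvertible (Coh.structureModule a.image) := LFFrame.isInvertible_structureModule _
  obtain ⟨φE, hφE, heE⟩ := EulerFam.exists_isLocallyConstant (f := q)
    (VBLib.isCoh_of_isFinLocFree (ProjForm.isFinLocFree_of_isInvertible hE))
    (FormalFun.isFlatOver_of_isFinLocFree' q (ProjForm.isFinLocFree_of_isInvertible hE))
  obtain ⟨φU, hφU, heU⟩ := EulerFam.exists_isLocallyConstant (f := q)
    (VBLib.isCoh_of_isFinLocFree (ProjForm.isFinLocFree_of_isInvertible hU))
    (FormalFun.isFlatOver_of_isFinLocFree' q (ProjForm.isFinLocFree_of_isInvertible hU))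
  have hconst : φE η - φU η = φE s - φU s := by
    rw [hφE.apply_eq_of_preconnectedSpace η s, hφU.apply_eq_of_preconnectedSpace η s]
  -- the closed fibre
  letI : (q.fiber s).Over (Spec (CommRingCat.of κs)) := ⟨q.fiberToSpecResidueField s⟩
  haveI : IsProper (q.fiber s ↘ Spec (CommRingCat.of κs)) :=
    inferInstanceAs (IsProper (pullback.snd q (Scheme.fromSpecResidueField S s)))
  let j : q.fiber s ⟶ p.fiber s :=
    pullback.lift (q.fiberι s ≫ i) (q.fiberToSpecResidueField s)
      ((Category.assoc _ _ _).trans pullback.condition)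
  have hj : j ≫ (p.fiber s ↘ Spec (CommRingCat.of κs)) = q.fiber s ↘ Spec (CommRingCat.of κs) :=
    pullback.lift_snd _ _ _
  have hsurj : Function.Surjective q := fun y => by
    have hd : η ∈ Set.range q := by
      obtain ⟨z⟩ := (inferInstance : Nonempty C.subscheme)
      exact ⟨w z, hη' z⟩
    exact ((genericPoint_spec S).specializes trivial).mem_closed q.isClosedMap.isClosed_range hd
  have hdimQ : topologicalKrullDim ↥(q.fiber s) = 1 := by
    have hdimS : topologicalKrullDim ↥S = 1 :=
      (PrimeSpectrum.topologicalKrullDim_eq_ringKrullDim R).trans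
        (IsDiscreteValuationRing.ringKrullDim_eq_one R)
    have hgen : topologicalKrullDim ↥(q.fiber η) = 1 := by
      rw [← hCdim, ← IsHomeomorph.topologicalKrullDim_eq _ (C.subschemeι.isEmbedding.toHomeomorph.trans
        (Homeomorph.setCongr C.range_subschemeι)).isHomeomorph]
      exact (IsHomeomorph.topologicalKrullDim_eq _ hCη.isoPullback.hom.homeomorph.isHomeomorph).symm
    have hcomp : ∀ Z ∈ irreducibleComponents ↥(q.fiber s), topologicalKrullDim ↥Z = 1 := fun Z hZ =>
      (S4702.result q hdimS hsurj.denseRange s (hsurj s) Z hZ).trans hgen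
    rw [S10831.result]
    refine le_antisymm (iSup₂_le fun Z hZ => (hcomp Z hZ).le) ?_
    obtain ⟨x, hx⟩ : ∃ x : q.fiber s, True := by
      obtain ⟨y, hy⟩ := hsurj s
      obtain ⟨x, -⟩ : y ∈ Set.range (q.fiberι s) := by rw [q.range_fiberι]; exact hy
      exact ⟨x, trivial⟩
    exact le_iSup₂_of_le (irreducibleComponent x) (irreducibleComponent_mem_irreducibleComponents x)
      (hcomp _ (irreducibleComponent_mem_irreducibleComponents x)).ge
  have hLs : PicF.IsInvertible ((Scheme.Modules.pullback (p.fiberι s)).obj L) :=
    PicCl.isInvertible_pullback _ hL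
  let Ls := (Scheme.Modules.pullback j).obj ((Scheme.Modules.pullback (p.fiberι s)).obj L)
  have hnef : NefPos.Nef κs (q.fiber s) Ls := NefPos.nef_pullback κs j hj hLs h0
  have hpos := S17276.result κs (q.fiber s) hdimQ Ls (PicCl.isInvertible_pullback j hLs) hnef
  -- compare
  have eη : (Scheme.Modules.pullback C.subschemeι).obj ((Scheme.Modules.pullback (p.fiberι η)).obj L) ≅
      (Scheme.Modules.pullback w).obj E :=
    (Scheme.Modules.pullbackComp _ _).app L ≪≫
      (Scheme.Modules.pullbackCongr (a.toImage_imageι).symm).app L ≪≫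
      ((Scheme.Modules.pullbackComp w i).app L).symm
  have es : Ls ≅ (Scheme.Modules.pullback (q.fiberι s)).obj E :=
    (Scheme.Modules.pullbackComp _ _).app L ≪≫
      (Scheme.Modules.pullbackCongr (pullback.lift_fst _ _ _)).app L ≪≫
      ((Scheme.Modules.pullbackComp (q.fiberι s) i).app L).symm
  obtain ⟨zη, hzη⟩ : ∃ z : Spec (CommRingCat.of κη), (Scheme.fromSpecResidueField S η).base z = η :=
    ⟨IsLocalRing.closedPoint κη, Scheme.fromSpecResidueField_apply η _⟩
  obtain ⟨zs, hzs⟩ : ∃ z : Spec (CommRingCat.of κs), (Scheme.fromSpecResidueField S s).base z = s :=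
    ⟨IsLocalRing.closedPoint κs, Scheme.fromSpecResidueField_apply s _⟩
  letI : C.subscheme.Over (Spec (CommRingCat.of κη)) := ⟨C.subschemeι ≫ p.fiberToSpecResidueField η⟩
  haveI : IsProper (C.subscheme ↘ Spec (CommRingCat.of κη)) :=
    inferInstanceAs (IsProper (C.subschemeι ≫ (p.fiber η ↘ Spec (CommRingCat.of κη))))
  have h1 := heE κη _ _ _ _ hCη zη
  have h2 := heU κη _ _ _ _ hCη zη
  have hQ : IsPullback (q.fiberι s) (q.fiberToSpecResidueField s) q (Scheme.fromSpecResidueField S s) :=
    IsPullback.of_hasPullback _ _
  have h3 := heE κs _ _ _ _ hQ zs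
  have h4 := heU κs _ _ _ _ hQ zs
  rw [hzη] at h1 h2
  rw [hzs] at h3 h4
  rw [EulerChar.euler_iso κη (QCoh.pullbackUnitIso w)] at h2
  rw [EulerChar.euler_iso κs (QCoh.pullbackUnitIso (q.fiberι s))] at h4
  rw [Curv2.deg, EulerChar.euler_iso κs es, h3, h4, Nat.cast_one, one_mul] at hpos
  show 0 ≤ Curv2.deg κη C.subscheme _ 1
  rw [Curv2.deg, EulerChar.euler_iso κη eη, h1, h2, Nat.cast_one, one_mul, hconst]
  exact hpos

end Groth.Agent.NefSpec
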